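import Groth.Agent.CechRes.QCoh
import Groth.Agent.CechRes.Sheaf
import Groth.Agent.DQCoh.AcyclicPush
import Groth.Agent.DQCoh.TildePush
import Groth.Agent.DQCoh.BCPush17
import Groth.Agent.Coherent.CohBC.Shapes
import Groth.Prelude.Def_DCoh2

/-!
# Base change of relative Čech complexes
-/

set_option autoImplicit false
set_option backward.isDefEq.respectTransparency false
set_option backward.isDefEq.respectTransparency.types false
set_option linter.style.haveILetI false

universe u v v' w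

open CategoryTheory CategoryTheory.Limits AlgebraicGeometry Opposite TopologicalSpace
open Groth.Agent.Coherent

attribute [local instance] HasDerivedCategory.standard

namespace Groth.Agent.CechBC14

noncomputable section

section Generic

variable {C : Type u} [SmallCategory C] [HasFiniteProducts C] {A : Type w} [Category.{v'} A] [Preadditive A]
  [HasProducts.{u} A] {ι : Type u} (W : ι → C) (P : Cᵒᵖ ⥤ A)

/-- The map forgetting an index. -/
abbrev face {p : ℕ} (a : Fin (p + 2) → ι) (j : Fin (p + 2)) :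
    (∏ᶜ fun k => W (a k)) ⟶ ∏ᶜ fun k => W ((a ∘ j.succAbove) k) :=
  Pi.lift fun k => Pi.π (fun k => W (a k)) (j.succAbove k)

/-- The projection from a term of the Čech complex. -/
abbrev prj {p : ℕ} (a : Fin (p + 1) → ι) :
    ((cechComplexFunctor (A := A) W).obj P).X p ⟶ P.obj (op (∏ᶜ fun k => W (a k))) :=
  Pi.π (fun i : Fin (p + 1) → ι => P.obj (op (∏ᶜ fun k => W (i k)))) a

theorem d_prj {p : ℕ} (a : Fin (p + 2) → ι) :
    ((cechComplexFunctor (A := A) W).obj P).d p (p + 1) ≫ prj W P a =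
      ∑ j : Fin (p + 2), (-1 : ℤ) ^ (j : ℕ) • (prj W P (a ∘ j.succAbove) ≫ P.map (face W a j).op) := by
  have e : ((cechComplexFunctor (A := A) W).obj P).d p (p + 1) =
      AlgebraicTopology.AlternatingCofaceMapComplex.objD
        (((FormalCoproduct.cosimplicialObjectFunctor (FormalCoproduct.mk _ W).cech)).obj P) p := by
    show (AlgebraicTopology.AlternatingCofaceMapComplex.obj
      (((FormalCoproduct.cosimplicialObjectFunctor (FormalCoproduct.mk _ W).cech)).obj P)).d p (p + 1) = _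
    dsimp only [AlgebraicTopology.AlternatingCofaceMapComplex.obj]
    exact CochainComplex.of_d _ _ p
  rw [e, AlgebraicTopology.AlternatingCofaceMapComplex.objD]
  erw [Preadditive.sum_comp]
  refine Finset.sum_congr rfl fun j _ => ?_
  erw [Preadditive.zsmul_comp]
  refine congrArg (fun z => (-1 : ℤ) ^ (j : ℕ) • z) ?_
  exact Pi.lift_π _ a

end Generic

section Change

variable {C C' : Type u} [SmallCategory C] [SmallCategory C'] [HasFiniteProducts C] [HasFiniteProducts C']
  [Quiver.IsThin C'] {A : Type w} [Category.{v'} A] [Preadditive A] [HasProducts.{u} A]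
  {B : Type v} [Category.{v'} B] [Preadditive B] [HasProducts.{u} B] {ι : Type u} (W : ι → C) (W' : ι → C')
  (P : Cᵒᵖ ⥤ A) (Q : C'ᵒᵖ ⥤ B) (G : A ⥤ B) [G.Additive] (m : C ⥤ C')
  (θ : P ⋙ G ⟶ m.op ⋙ Q)
  (e : ∀ {p : ℕ} (a : Fin (p + 1) → ι), (∏ᶜ fun k => W' (a k)) ≅ m.obj (∏ᶜ fun k => W (a k)))

/-- Components of the change map. -/
def changeX (p : ℕ) : G.obj (((cechComplexFunctor (A := A) W).obj P).X p) ⟶
    ((cechComplexFunctor (A := B) W').obj Q).X p :=
  Pi.lift fun a => G.map (prj W P a) ≫ θ.app (op (∏ᶜ fun k => W (a k))) ≫ Q.map (e a).hom.op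

omit [Quiver.IsThin C'] [G.Additive] in
theorem changeX_prj {p : ℕ} (a : Fin (p + 1) → ι) :
    changeX W W' P Q G m θ e p ≫ prj W' Q a =
      G.map (prj W P a) ≫ θ.app (op (∏ᶜ fun k => W (a k))) ≫ Q.map (e a).hom.op :=
  Pi.lift_π _ a

/-- Change of the Čech complex. -/
def change : (G.mapHomologicalComplex (ComplexShape.up ℕ)).obj ((cechComplexFunctor (A := A) W).obj P) ⟶
    (cechComplexFunctor (A := B) W').obj Q where
  f p := changeX W W' P Q G m θ e p
  comm' i j hij := by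
    obtain rfl : i + 1 = j := hij
    refine Pi.hom_ext _ _ fun a => ?_
    show (changeX W W' P Q G m θ e i ≫ _) ≫ prj W' Q a =
      (G.map (((cechComplexFunctor (A := A) W).obj P).d i (i + 1)) ≫ changeX W W' P Q G m θ e (i + 1)) ≫ prj W' Q a
    rw [Category.assoc, d_prj, Category.assoc, changeX_prj, ← G.map_comp_assoc, d_prj, Preadditive.comp_sum,
      G.map_sum, Preadditive.sum_comp]
    refine Finset.sum_congr rfl fun k _ => ?_
    rw [Preadditive.comp_zsmul, G.map_zsmul, Preadditive.zsmul_comp, reassoc_of% (changeX_prj W W' P Q G m θ e),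
      G.map_comp, Category.assoc]
    congr 2
    have h := θ.naturality (face W a k).op
    simp only [Functor.comp_map, Functor.op_map, Quiver.Hom.unop_op] at h
    rw [reassoc_of% h]
    congr 1
    rw [← Q.map_comp, ← Q.map_comp]
    congr 1
    exact Quiver.Hom.unop_inj (Subsingleton.elim _ _)

theorem isIso_change [∀ p : ℕ, PreservesLimit (Discrete.functor fun a : Fin (p + 1) → ι =>
    P.obj (op (∏ᶜ fun k => W (a k)))) G]
    (h : ∀ (p : ℕ) (a : Fin (p + 1) → ι), IsIso (θ.app (op (∏ᶜ fun k => W (a k))))) :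
    IsIso (change W W' P Q G m θ e) := by
  haveI : ∀ p, IsIso ((change W W' P Q G m θ e).f p) := fun p => by
    haveI : ∀ a : Fin (p + 1) → ι, IsIso (θ.app (op (∏ᶜ fun k => W (a k))) ≫ Q.map (e a).hom.op) := fun a => by
      haveI := h p a
      infer_instance
    have : (change W W' P Q G m θ e).f p =
        piComparison G (fun a : Fin (p + 1) → ι => P.obj (op (∏ᶜ fun k => W (a k)))) ≫
          Limits.Pi.map fun a => θ.app (op (∏ᶜ fun k => W (a k))) ≫ Q.map (e a).hom.op := by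
      refine Pi.hom_ext _ _ fun a => (changeX_prj W W' P Q G m θ e a).trans ?_
      rw [Category.assoc]
      erw [Limits.Pi.map_π]
      rw [piComparison_comp_π_assoc]
    rw [this]
    infer_instance
  exact HomologicalComplex.Hom.isIso_of_components _

end Change

section Theta

variable {X X' : Scheme.{u}} (g' : X' ⟶ X) (F : X.Modules)

/-- The unit to the direct image from an open. -/
abbrev η (W : X.Opens) : F ⟶ (CechOX.pushRestr W).obj F :=
  (Scheme.Modules.restrictAdjunction W.ι).unit.app F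

theorem isIso_restrict_unit (W : X.Opens) : IsIso ((Scheme.Modules.restrictFunctor W.ι).map (η F W)) :=
  IsIso.of_isIso_fac_right ((Scheme.Modules.restrictAdjunction W.ι).left_triangle_components F)

theorem isIso_restrict_pull_unit (W : X.Opens) (W' : X'.Opens) (h : W' ≤ g' ⁻¹ᵁ W) :
    IsIso ((Scheme.Modules.restrictFunctor W'.ι).map ((Scheme.Modules.pullback g').map (η F W))) := by
  let g'' : W'.toScheme ⟶ W.toScheme := X'.homOfLE h ≫ g' ∣_ W
  have w : W'.ι ≫ g' = g'' ≫ W.ι := by simp [g'', morphismRestrict_ι]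
  let E : Scheme.Modules.pullback g' ⋙ Scheme.Modules.restrictFunctor W'.ι ≅
      Scheme.Modules.restrictFunctor W.ι ⋙ Scheme.Modules.pullback g'' :=
    Functor.isoWhiskerLeft _ (Scheme.Modules.restrictFunctorIsoPullback W'.ι) ≪≫
      Scheme.Modules.pullbackComp W'.ι g' ≪≫ Scheme.Modules.pullbackCongr w ≪≫
      (Scheme.Modules.pullbackComp g'' W.ι).symm ≪≫
      Functor.isoWhiskerRight (Scheme.Modules.restrictFunctorIsoPullback W.ι).symm _
  haveI := isIso_restrict_unit F W
  exact (NatIso.isIso_map_iff E (η F W)).2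
    (inferInstanceAs (IsIso ((Scheme.Modules.pullback g'').map ((Scheme.Modules.restrictFunctor W.ι).map (η F W)))))

/-- The comparison on an open. -/
def θ (W : X.Opens) : (Scheme.Modules.pullback g').obj ((CechOX.pushRestr W).obj F) ⟶
    (CechOX.pushRestr (g' ⁻¹ᵁ W)).obj ((Scheme.Modules.pullback g').obj F) :=
  haveI := isIso_restrict_pull_unit g' F W (g' ⁻¹ᵁ W) le_rfl
  (Scheme.Modules.restrictAdjunction (g' ⁻¹ᵁ W).ι).homEquiv _ _
    (inv ((Scheme.Modules.restrictFunctor (g' ⁻¹ᵁ W).ι).map ((Scheme.Modules.pullback g').map (η F W))))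

theorem map_η_θ (W : X.Opens) :
    (Scheme.Modules.pullback g').map (η F W) ≫ θ g' F W =
      η ((Scheme.Modules.pullback g').obj F) (g' ⁻¹ᵁ W) := by
  rw [θ, ← Adjunction.homEquiv_naturality_left, IsIso.hom_inv_id, Adjunction.homEquiv_id]

theorem hom_ext_of_η (W : X.Opens) (W' : X'.Opens) (h : W' ≤ g' ⁻¹ᵁ W) (G : X'.Modules)
    {a b : (Scheme.Modules.pullback g').obj ((CechOX.pushRestr W).obj F) ⟶ (CechOX.pushRestr W').obj G}
    (e : (Scheme.Modules.pullback g').map (η F W) ≫ a = (Scheme.Modules.pullback g').map (η F W) ≫ b) :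
    a = b := by
  haveI := isIso_restrict_pull_unit g' F W W' h
  haveI : Epi ((Scheme.Modules.restrictFunctor W'.ι).map ((Scheme.Modules.pullback g').map (η F W))) :=
    IsIso.epi_of_iso _
  apply ((Scheme.Modules.restrictAdjunction W'.ι).homEquiv _ _).symm.injective
  rw [← cancel_epi ((Scheme.Modules.restrictFunctor W'.ι).map ((Scheme.Modules.pullback g').map (η F W))),
    ← Adjunction.homEquiv_naturality_left_symm, ← Adjunction.homEquiv_naturality_left_symm, e]

theorem θ_natural {W₁ W₂ : X.Opens} (h : W₂ ≤ W₁) :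
    (Scheme.Modules.pullback g').map (CechOX.pushRestrMapApp h F) ≫ θ g' F W₂ =
      θ g' F W₁ ≫ CechOX.pushRestrMapApp (Scheme.Hom.preimage_mono g' h) ((Scheme.Modules.pullback g').obj F) := by
  refine hom_ext_of_η g' F W₁ (g' ⁻¹ᵁ W₂) (Scheme.Hom.preimage_mono g' h) _ ?_
  rw [← Functor.map_comp_assoc, CechRes.unit_pushRestrMapApp, map_η_θ, reassoc_of% (map_η_θ g' F W₁),
    CechRes.unit_pushRestrMapApp]

theorem isIso_θ (W : X.Opens) [IsAffineHom W.ι] [Coh.IsQCoh F] : IsIso (θ g' F W) := by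
  let W' := g' ⁻¹ᵁ W
  let M := (Scheme.Modules.pullback g').obj ((CechOX.pushRestr W).obj F)
  haveI : Coh.IsQCoh ((Scheme.Modules.restrictFunctor W.ι).obj F) :=
    Scheme.Modules.isQuasicoherent_restrictFunctor W.ι ‹_›
  have sq : IsPullback (g' ∣_ W) W'.ι W.ι g' := isPullback_morphismRestrict g' W
  haveI := CohExch.isIso_bc0_of_affine sq ((Scheme.Modules.restrictFunctor W.ι).obj F)
  let e : M ≅ (Scheme.Modules.pushforward W'.ι).obj _ :=
    asIso (CohBC.bc0 W.ι g' W'.ι (g' ∣_ W) sq.w ((Scheme.Modules.restrictFunctor W.ι).obj F))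
  haveI : IsIso ((Scheme.Modules.restrictAdjunction W'.ι).unit.app M) :=
    (NatTrans.isIso_app_iff_of_iso _ e).2
      (IsIso.of_isIso_fac_right ((Scheme.Modules.restrictAdjunction W'.ι).right_triangle_components _))
  rw [θ, Adjunction.homEquiv_unit]
  infer_instance

/-- The comparison as a natural transformation. -/
def θNat : CechOX.pushRestrFam.flip.obj F ⋙ Scheme.Modules.pullback g' ⟶
    (TopologicalSpace.Opens.map g'.base).op ⋙
      CechOX.pushRestrFam.flip.obj ((Scheme.Modules.pullback g').obj F) where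
  app W := θ g' F W.unop
  naturality _ _ i := θ_natural g' F (leOfHom i.unop)

end Theta

section Main

variable {X X' S S' : Scheme.{u}}

theorem preimage_inter (g' : X' ⟶ X) {ι : Type u} (𝒰 : ι → X.Opens) {p : ℕ} (a : Fin (p + 1) → ι) :
    (∏ᶜ fun k => g' ⁻¹ᵁ 𝒰 (a k)) = g' ⁻¹ᵁ (∏ᶜ fun k => 𝒰 (a k)) := by
  have e : (∏ᶜ fun k => 𝒰 (a k)) = ⨅ k, 𝒰 (a k) := le_antisymm
    (le_iInf fun k => leOfHom (Pi.π (fun k => 𝒰 (a k)) k))
    (leOfHom (Pi.lift fun k => homOfLE (iInf_le (fun k => 𝒰 (a k)) k)))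
  have e' : (∏ᶜ fun k => g' ⁻¹ᵁ 𝒰 (a k)) = ⨅ k, g' ⁻¹ᵁ 𝒰 (a k) := le_antisymm
    (le_iInf fun k => leOfHom (Pi.π (fun k => g' ⁻¹ᵁ 𝒰 (a k)) k))
    (leOfHom (Pi.lift fun k => homOfLE (iInf_le (fun k => g' ⁻¹ᵁ 𝒰 (a k)) k)))
  rw [e, e']
  refine SetLike.coe_injective ?_
  simp [TopologicalSpace.Opens.coe_iInf, Set.preimage_iInter]

theorem isIso_pi_app {A B : Type v} [Category.{v'} A] [Category.{v'} B]
    {F G : A ⥤ B} (τ : F ⟶ G) {α : Type w} (P : α → A) [HasProductsOfShape α B] [HasProduct P]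
    [PreservesLimit (Discrete.functor P) F] [PreservesLimit (Discrete.functor P) G]
    (h : ∀ a, IsIso (τ.app (P a))) : IsIso (τ.app (∏ᶜ P)) := by
  have e : τ.app (∏ᶜ P) ≫ piComparison G P = piComparison F P ≫ Limits.Pi.map fun a => τ.app (P a) := by
    refine Pi.hom_ext _ _ fun a => ?_
    rw [Category.assoc, Category.assoc, piComparison_comp_π, Limits.Pi.map_π, piComparison_comp_π_assoc,
      τ.naturality]
  haveI := h
  haveI : IsIso (Limits.Pi.map fun a => τ.app (P a)) :=
    inferInstanceAs (IsIso (Limits.Pi.mapIso fun a => asIso (τ.app (P a))).hom)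
  haveI : IsIso (piComparison F P) := inferInstance
  haveI : IsIso (τ.app (∏ᶜ P) ≫ piComparison G P) := by rw [e]; infer_instance
  exact IsIso.of_isIso_comp_right _ (piComparison G P)

theorem inter_isAffineOpen [IsAffineHom (pullback.diagonal (terminal.from X))] {ι : Type u}
    (𝒰 : ι → X.Opens) (h𝒰 : ∀ i, IsAffineOpen (𝒰 i)) {p : ℕ} (a : Fin (p + 1) → ι) :
    IsAffineOpen (∏ᶜ fun k => 𝒰 (a k)) := by
  haveI : QuasiSeparated (terminal.from X) := ⟨inferInstance⟩
  have e : (∏ᶜ fun k => 𝒰 (a k)) = ⨅ k, 𝒰 (a k) :=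
    le_antisymm (le_iInf fun k => leOfHom (Pi.π (fun k => 𝒰 (a k)) k))
      (leOfHom (Pi.lift fun k => homOfLE (iInf_le (fun k => 𝒰 (a k)) k)))
  rw [e]
  exact IsAffineOpen.iInf fun k => h𝒰 (a k)

/-- The relative Čech complex of a family of opens affine over the base computes the direct image. -/
theorem nonempty_relCech_iso_Rpush (f : X ⟶ S) [QuasiCompact f] [QuasiSeparated f]
    (F : X.Modules) [Coh.IsQCoh F] {ι : Type u} [Finite ι] (𝒰 : ι → X.Opens) (hcov : ⨆ i, 𝒰 i = ⊤)
    (hι : ∀ (p : ℕ) (a : Fin (p + 1) → ι), IsAffineHom (∏ᶜ fun k => 𝒰 (a k) : X.Opens).ι)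
    (hf : ∀ (p : ℕ) (a : Fin (p + 1) → ι), IsAffineHom ((∏ᶜ fun k => 𝒰 (a k) : X.Opens).ι ≫ f))
    [DCoh.HasRpush f] :
    Nonempty (DCoh.toD S (CechOX.relCechZ 𝒰 f F) ≅ (DCoh.Rpush f).obj (DCoh.inD X F)) := by
  haveI := hasInjectiveResolutions_modules X
  let C := (CechOX.cechSh 𝒰).obj F
  have hac : ∀ (p i : ℕ), 0 < i → IsZero ((Coh.Rpush f i).obj (C.X p)) := fun p i hi => by
    refine isZero_rightDerived_pi (fun a : Fin (p + 1) → ι => (CechOX.pushRestrFam.flip.obj F).obj
      (Opposite.op (∏ᶜ fun k => 𝒰 (a k)))) f i fun a => ?_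
    haveI := hι p a
    haveI := hf p a
    haveI : Coh.IsQCoh ((Scheme.Modules.restrictFunctor (∏ᶜ fun k => 𝒰 (a k) : X.Opens).ι).obj F) :=
      Scheme.Modules.isQuasicoherent_restrictFunctor _ ‹_›
    exact DQCoh.BCPush17.isZero_rpush_push f (∏ᶜ fun k => 𝒰 (a k) : X.Opens).ι _ i hi
  let φ : (CochainComplex.single₀ X.Modules).obj F ⟶ C :=
    (CochainComplex.fromSingle₀Equiv C F).symm ⟨CechOX.cechShAug 𝒰 F, CechRes.aug_d 𝒰 F⟩
  haveI : QuasiIso φ := ⟨fun p => by
    rcases p with _ | p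
    · rw [quasiIsoAt_iff' φ 0 0 1 (by simp) (by simp),
        ShortComplex.quasiIso_iff_of_zeros _ (by simp) (by simp) (by exact C.shape 0 0 (by simp))]
      have h0 : φ.f 0 = CechOX.cechShAug 𝒰 F := CochainComplex.fromSingle₀Equiv_symm_apply_f_zero _ _
      haveI := CechRes.mono_aug 𝒰 F hcov
      refine ⟨?_, by show Mono (φ.f 0); rw [h0]; infer_instance⟩
      refine ShortComplex.exact_of_iso ?_ (CechRes.exact_aug 𝒰 F hcov)
      exact ShortComplex.isoMk (Iso.refl _) (Iso.refl _) (Iso.refl _) (by simp [h0]) (by simp [C])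
    · rw [quasiIsoAt_iff_exactAt φ (p + 1) (HomologicalComplex.exactAt_single_obj _ _ _ _ (by simp)),
        HomologicalComplex.exactAt_iff_isZero_homology]
      exact CechRes.isZero_homology 𝒰 F hcov p⟩
  let CZ := C.extend ComplexShape.embeddingUpNat
  let ψ := HomologicalComplex.extendMap φ ComplexShape.embeddingUpNat
  haveI : QuasiIso ψ := (HomologicalComplex.quasiIso_extendMap_iff φ ComplexShape.embeddingUpNat).2 ‹_›
  let e₀ : DCoh.inD X F ≅ DerivedCategory.Q.obj CZ :=
    (DerivedCategory.singleFunctorIsoCompQ X.Modules 0).app F ≪≫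
      DerivedCategory.Q.mapIso (HomologicalComplex.extendSingleIso ComplexShape.embeddingUpNat F
        (i := 0) (i' := (0 : ℤ)) rfl).symm ≪≫ asIso (DerivedCategory.Q.map ψ)
  have hCZ : ∀ n : ℤ, DCat.Acyclic.Acy (Scheme.Modules.pushforward f) (CZ.X n) := fun n => by
    by_cases hn : 0 ≤ n
    · obtain ⟨p, rfl⟩ := Int.eq_ofNat_of_zero_le hn
      exact DCat.Acyclic.Acy.of_iso (fun i hi => hac p i hi) (C.extendXIso ComplexShape.embeddingUpNat rfl).symm
    · exact fun i _ => ((Scheme.Modules.pushforward f).rightDerived i).map_isZero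
        (C.isZero_extend_X ComplexShape.embeddingUpNat n fun p hp => hn (by simp at hp; omega))
  haveI : CochainComplex.IsStrictlyGE CZ 0 := (CochainComplex.isStrictlyGE_iff _ _).2 fun n hn =>
    C.isZero_extend_X ComplexShape.embeddingUpNat n fun p hp => by
      simp at hp; omega
  haveI := DQCoh.isIso_unit_boundedBelow f CZ 0 hCZ
  let q := HomotopyCategory.quotient X.Modules (ComplexShape.up ℤ)
  let e₁ : DerivedCategory.Q.obj (((Scheme.Modules.pushforward f).mapHomologicalComplex (ComplexShape.up ℤ)).obj CZ) ≅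
      (DCoh.pushKh f).obj (q.obj CZ) :=
    ((DerivedCategory.quotientCompQhIso S.Modules).app _).symm
  let e₂ : (DCoh.pushKh f).obj (q.obj CZ) ≅ (DCoh.Rpush f).obj (DerivedCategory.Qh.obj (q.obj CZ)) :=
    asIso (((DCoh.pushKh f).totalRightDerivedUnit DerivedCategory.Qh
      (HomotopyCategory.quasiIso X.Modules (ComplexShape.up ℤ))).app (q.obj CZ))
  exact ⟨DerivedCategory.Q.mapIso (HomologicalComplex.cohBCMapExtendIso (Scheme.Modules.pushforward f) C
      ComplexShape.embeddingUpNat).symm ≪≫ e₁ ≪≫ e₂ ≪≫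
    (DCoh.Rpush f).mapIso ((DerivedCategory.quotientCompQhIso X.Modules).app CZ ≪≫ e₀.symm)⟩
where
  isZero_rightDerived_pi {α : Type u} [Finite α] (F : α → X.Modules) (f : X ⟶ S)
      [HasInjectiveResolutions X.Modules] (i : ℕ)
      (h : ∀ a, IsZero ((Coh.Rpush f i).obj (F a))) : IsZero ((Coh.Rpush f i).obj (∏ᶜ F)) := by
    obtain ⟨n, ⟨e⟩⟩ := Finite.exists_equiv_fin α
    haveI : HasFiniteBiproducts X.Modules := HasFiniteBiproducts.of_hasFiniteProducts
    let G : Fin n → X.Modules := fun j => F (e.symm j)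
    have hG : IsZero ((Coh.Rpush f i).obj (⨁ G)) := by
      rw [IsZero.iff_id_eq_zero, ← CategoryTheory.Functor.map_id, ← biproduct.total, Functor.map_sum]
      refine Finset.sum_eq_zero fun j _ => ?_
      rw [Functor.map_comp]
      exact (h (e.symm j)).eq_of_tgt ((Coh.Rpush f i).map (biproduct.π G j)) 0 ▸ zero_comp
    exact hG.of_iso ((Coh.Rpush f i).mapIso (biproduct.isoProduct G ≪≫ Pi.reindex e.symm F)).symm

variable {f : X ⟶ S} {g : S' ⟶ S} {f' : X' ⟶ S'} {g' : X' ⟶ X}

theorem isAffineHom_inter (h : IsPullback g' f' f g) [IsAffineHom (pullback.diagonal (terminal.from X))]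
    [IsAffineHom (pullback.diagonal (terminal.from S))] {ι : Type u} (𝒰 : ι → X.Opens)
    (h𝒰 : ∀ i, IsAffineOpen (𝒰 i)) {p : ℕ} (a : Fin (p + 1) → ι) :
    IsAffineHom (∏ᶜ fun k => 𝒰 (a k) : X.Opens).ι ∧
    IsAffineHom ((∏ᶜ fun k => 𝒰 (a k) : X.Opens).ι ≫ f) ∧
    IsAffineHom (∏ᶜ fun k => g' ⁻¹ᵁ 𝒰 (a k) : X'.Opens).ι ∧
    IsAffineHom ((∏ᶜ fun k => g' ⁻¹ᵁ 𝒰 (a k) : X'.Opens).ι ≫ f') := by
  let W : X.Opens := ∏ᶜ fun k => 𝒰 (a k)
  haveI : IsAffine W := inter_isAffineOpen 𝒰 h𝒰 a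
  have key : ∀ {T : Scheme.{u}} [IsAffineHom (pullback.diagonal (terminal.from T))] (j : W.toScheme ⟶ T),
      IsAffineHom j := fun {T} _ j => by
    haveI : MorphismProperty.HasOfPostcompProperty @IsAffineHom (MorphismProperty.diagonal @IsAffineHom) :=
      MorphismProperty.hasOfPostcompProperty_iff_le_diagonal.2 le_rfl
    exact MorphismProperty.of_postcomp @IsAffineHom j (terminal.from T)
      (show MorphismProperty.diagonal @IsAffineHom (terminal.from T) from
        ‹IsAffineHom (pullback.diagonal (terminal.from T))›)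
      (by rw [terminal.comp_from]; infer_instance)
  haveI h1 : IsAffineHom W.ι := key W.ι
  haveI h2 : IsAffineHom (W.ι ≫ f) := key _
  have sq : IsPullback (g' ∣_ W) (g' ⁻¹ᵁ W).ι W.ι g' := isPullback_morphismRestrict g' W
  refine ⟨h1, h2, ?_⟩
  rw [preimage_inter g' 𝒰 a]
  exact ⟨MorphismProperty.of_isPullback (P := @IsAffineHom) sq h1,
    MorphismProperty.of_isPullback (P := @IsAffineHom) (sq.paste_vert h) h2⟩

/-- Base change of the relative Čech complex. -/
theorem nonempty_relCech_pullback (h : IsPullback g' f' f g) [IsAffineHom (pullback.diagonal (terminal.from X))]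
    [IsAffineHom (pullback.diagonal (terminal.from S))] {ι : Type u} [Finite ι] (𝒰 : ι → X.Opens)
    (h𝒰 : ∀ i, IsAffineOpen (𝒰 i)) (F : X.Modules) [Coh.IsQCoh F] [(Scheme.Modules.pullback g).Additive] :
    Nonempty (((Scheme.Modules.pullback g).mapHomologicalComplex (ComplexShape.up ℕ)).obj
        ((CechOX.relCech 𝒰 f).obj F) ≅
      (CechOX.relCech (fun i => g' ⁻¹ᵁ 𝒰 i) f').obj ((Scheme.Modules.pullback g').obj F)) := by
  haveI : (Scheme.Modules.pullback g').Additive := (Scheme.Modules.pullbackPushforwardAdjunction g').left_adjoint_additive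
  let P := CechOX.pushRestrFam.flip.obj F
  let e : ∀ {p : ℕ} (a : Fin (p + 1) → ι),
      (∏ᶜ fun k => g' ⁻¹ᵁ 𝒰 (a k)) ≅ (TopologicalSpace.Opens.map g'.base).obj (∏ᶜ fun k => 𝒰 (a k)) :=
    fun a => eqToIso (preimage_inter g' 𝒰 a)
  let c := change 𝒰 (fun i => g' ⁻¹ᵁ 𝒰 i) P
    (CechOX.pushRestrFam.flip.obj ((Scheme.Modules.pullback g').obj F)) (Scheme.Modules.pullback g')
    (TopologicalSpace.Opens.map g'.base) (θNat g' F) e
  haveI : IsIso c := isIso_change _ _ _ _ _ _ _ e fun p a => by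
    haveI := (isAffineHom_inter h 𝒰 h𝒰 a).1
    exact isIso_θ g' F (∏ᶜ fun k => 𝒰 (a k))
  let τ := DQCoh.BCPush17.bcNat f g f' g' h.w
  haveI : (Scheme.Modules.pushforward f ⋙ Scheme.Modules.pullback g).Additive := inferInstance
  haveI : (Scheme.Modules.pullback g' ⋙ Scheme.Modules.pushforward f').Additive := inferInstance
  haveI : ∀ p, IsIso (τ.app (((CechOX.cechSh 𝒰).obj F).X p)) := fun p => by
    refine isIso_pi_app τ (fun a : Fin (p + 1) → ι => P.obj (op (∏ᶜ fun k => 𝒰 (a k)))) fun a => ?_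
    obtain ⟨h1, h2, -, -⟩ := isAffineHom_inter h 𝒰 h𝒰 a
    let W : X.Opens := ∏ᶜ fun k => 𝒰 (a k)
    haveI : Coh.IsQCoh ((Scheme.Modules.restrictFunctor W.ι).obj F) :=
      Scheme.Modules.isQuasicoherent_restrictFunctor _ ‹_›
    have sq : IsPullback (g' ∣_ W) (g' ⁻¹ᵁ W).ι W.ι g' := isPullback_morphismRestrict g' W
    exact DQCoh.BCPush17.isIso_bc0_push f g f' g' h.w sq.w _ (CohExch.isIso_bc0_of_affine sq _)
      (CohExch.isIso_bc0_of_affine (sq.paste_vert h) _)
  haveI : IsIso ((NatTrans.mapHomologicalComplex τ (ComplexShape.up ℕ)).app ((CechOX.cechSh 𝒰).obj F)) := by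
    haveI : ∀ p, IsIso (((NatTrans.mapHomologicalComplex τ (ComplexShape.up ℕ)).app ((CechOX.cechSh 𝒰).obj F)).f p) :=
      fun p => ‹∀ p, IsIso (τ.app _)› p
    exact HomologicalComplex.Hom.isIso_of_components _
  exact ⟨(asIso ((NatTrans.mapHomologicalComplex τ (ComplexShape.up ℕ)).app ((CechOX.cechSh 𝒰).obj F)) :) ≪≫
    ((Scheme.Modules.pushforward f').mapHomologicalComplex (ComplexShape.up ℕ)).mapIso (asIso c)⟩

end Main

end

end Groth.Agent.CechBC14
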